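import Cfsg.Agent.Lib.ThLow8.Chunk
import Cfsg.Agent.Lib.ThLow8.Data2

/-! Kernel evaluation of the words for the prime 2, part 0. -/

set_option autoImplicit false
set_option maxRecDepth 20000
set_option Elab.async false

namespace Cfsg.Agent.Lib.ThLow8.A2

open Cfsg.Agent.Lib.Th22

theorem a0_0_s0 : stepOk D2.lev0.tree [3,4,6,6,5,7,3,2,3,10,8,4,3,6] (permT (D2.lev0.perm 0) D2.lev0.q D2.lev0.tree) = true := by decide +kernel

theorem a0_0 : actOk D2.lev0 (D2.words.drop 0) 0 = true :=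
  actOk_of (w := [3,4,6,6,5,7,3,2,3,10,8,4,3,6]) rfl a0_0_s0 (by decide +kernel)

theorem a0_1_s0 : stepOk D2.lev0.tree [4,6,6,7,3,8,4,9] (permT (D2.lev0.perm 1) D2.lev0.q D2.lev0.tree) = true := by decide +kernel

theorem a0_1 : actOk D2.lev0 (D2.words.drop 0) 1 = true :=
  actOk_of (w := [4,6,6,7,3,8,4,9]) rfl a0_1_s0 (by decide +kernel)

theorem a0_2_s0 : stepOk D2.lev0.tree [2] (permT (D2.lev0.perm 2) D2.lev0.q D2.lev0.tree) = true := by decide +kernel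

theorem a0_2 : actOk D2.lev0 (D2.words.drop 0) 2 = true :=
  actOk_of (w := [2]) rfl a0_2_s0 (by decide +kernel)

theorem a0_3_s0 : stepOk D2.lev0.tree [7,3,2,3,7] (permT (D2.lev0.perm 3) D2.lev0.q D2.lev0.tree) = true := by decide +kernel

theorem a0_3 : actOk D2.lev0 (D2.words.drop 0) 3 = true :=
  actOk_of (w := [7,3,2,3,7]) rfl a0_3_s0 (by decide +kernel)

theorem a0_4_s0 : stepOk D2.lev0.tree [5,5,0,2,3,2] (permT (D2.lev0.perm 4) D2.lev0.q D2.lev0.tree) = true := by decide +kernel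

theorem a0_4 : actOk D2.lev0 (D2.words.drop 0) 4 = true :=
  actOk_of (w := [5,5,0,2,3,2]) rfl a0_4_s0 (by decide +kernel)

theorem a0_5_s0 : stepOk D2.lev0.tree [5,5,4,3,5,7,3,4,7,5,7,3,2,3,8,6] (permT (D2.lev0.perm 5) D2.lev0.q D2.lev0.tree) = true := by decide +kernel

theorem a0_5 : actOk D2.lev0 (D2.words.drop 0) 5 = true :=
  actOk_of (w := [5,5,4,3,5,7,3,4,7,5,7,3,2,3,8,6]) rfl a0_5_s0 (by decide +kernel)

theorem a0_6_s0 : stepOk D2.lev0.tree [0] (permT (D2.lev0.perm 6) D2.lev0.q D2.lev0.tree) = true := by decide +kernel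

theorem a0_6 : actOk D2.lev0 (D2.words.drop 0) 6 = true :=
  actOk_of (w := [0]) rfl a0_6_s0 (by decide +kernel)

theorem a0_7_s0 : stepOk D2.lev0.tree [3,4,5,4,5,3,4,7] (permT (D2.lev0.perm 7) D2.lev0.q D2.lev0.tree) = true := by decide +kernel

theorem a0_7 : actOk D2.lev0 (D2.words.drop 0) 7 = true :=
  actOk_of (w := [3,4,5,4,5,3,4,7]) rfl a0_7_s0 (by decide +kernel)

theorem a0_8_s0 : stepOk D2.lev0.tree [3,4,5,6,7,3,8,7,5,5] (permT (D2.lev0.perm 8) D2.lev0.q D2.lev0.tree) = true := by decide +kernel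

theorem a0_8 : actOk D2.lev0 (D2.words.drop 0) 8 = true :=
  actOk_of (w := [3,4,5,6,7,3,8,7,5,5]) rfl a0_8_s0 (by decide +kernel)

theorem a0_9_s0 : stepOk D2.lev0.tree [5,3,2,3,10,3,2,3,10,8] (permT (D2.lev0.perm 9) D2.lev0.q D2.lev0.tree) = true := by decide +kernel

theorem a0_9 : actOk D2.lev0 (D2.words.drop 0) 9 = true :=
  actOk_of (w := [5,3,2,3,10,3,2,3,10,8]) rfl a0_9_s0 (by decide +kernel)

end Cfsg.Agent.Lib.ThLow8.A2
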