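import Cfsg.Agent.Lib.ThLow8.Chunk
import Cfsg.Agent.Lib.ThLow8.Data2

/-! Kernel evaluation of the words for the prime 2, part 1. -/

set_option autoImplicit false
set_option maxRecDepth 20000
set_option Elab.async false

namespace Cfsg.Agent.Lib.ThLow8.A2

open Cfsg.Agent.Lib.Th22

theorem a0_10_s0 : stepOk D2.lev0.tree [4,5,4,5,4,3,10,3,4,8,10] (permT (D2.lev0.perm 10) D2.lev0.q D2.lev0.tree) = true := by decide +kernel

theorem a0_10 : actOk D2.lev0 (D2.words.drop 0) 10 = true :=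
  actOk_of (w := [4,5,4,5,4,3,10,3,4,8,10]) rfl a0_10_s0 (by decide +kernel)

theorem a0_11_s0 : stepOk D2.lev0.tree [6,5,4,10,3,2,3,4,10,8,9] (permT (D2.lev0.perm 11) D2.lev0.q D2.lev0.tree) = true := by decide +kernel

theorem a0_11 : actOk D2.lev0 (D2.words.drop 0) 11 = true :=
  actOk_of (w := [6,5,4,10,3,2,3,4,10,8,9]) rfl a0_11_s0 (by decide +kernel)

theorem a0_12_s0 : stepOk D2.lev0.tree [3,7,3,4,5,7,3,8,4,10] (permT (D2.lev0.perm 12) D2.lev0.q D2.lev0.tree) = true := by decide +kernel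

theorem a0_12 : actOk D2.lev0 (D2.words.drop 0) 12 = true :=
  actOk_of (w := [3,7,3,4,5,7,3,8,4,10]) rfl a0_12_s0 (by decide +kernel)

theorem a0_13_s0 : stepOk D2.lev0.tree [5,3,2,3,10,3,2,3,10,8] (permT (D2.lev0.perm 13) D2.lev0.q D2.lev0.tree) = true := by decide +kernel

theorem a0_13 : actOk D2.lev0 (D2.words.drop 0) 13 = true :=
  actOk_of (w := [5,3,2,3,10,3,2,3,10,8]) rfl a0_13_s0 (by decide +kernel)

theorem a0_14_s0 : stepOk D2.lev0.tree [3,4,5,6,0,7,3,8,7,5,5] (permT (D2.lev0.perm 14) D2.lev0.q D2.lev0.tree) = true := by decide +kernel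

theorem a0_14 : actOk D2.lev0 (D2.words.drop 0) 14 = true :=
  actOk_of (w := [3,4,5,6,0,7,3,8,7,5,5]) rfl a0_14_s0 (by decide +kernel)

theorem a0_15_s0 : stepOk D2.lev0.tree [3,4,5,4,3,10,3,10,3,5,7,8,4,9] (permT (D2.lev0.perm 15) D2.lev0.q D2.lev0.tree) = true := by decide +kernel

theorem a0_15 : actOk D2.lev0 (D2.words.drop 0) 15 = true :=
  actOk_of (w := [3,4,5,4,3,10,3,10,3,5,7,8,4,9]) rfl a0_15_s0 (by decide +kernel)

theorem a1_0_s0 : stepOk D2.lev1.tree [0] (permT (D2.lev1.perm 0) D2.lev1.q D2.lev1.tree) = true := by decide +kernel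

theorem a1_0 : actOk D2.lev1 (D2.words.drop 6) 0 = true :=
  actOk_of (w := [0]) rfl a1_0_s0 (by decide +kernel)

theorem a1_1_s0 : stepOk D2.lev1.tree [3,4,5,4,5,3,4,7] (permT (D2.lev1.perm 1) D2.lev1.q D2.lev1.tree) = true := by decide +kernel

theorem a1_1 : actOk D2.lev1 (D2.words.drop 6) 1 = true :=
  actOk_of (w := [3,4,5,4,5,3,4,7]) rfl a1_1_s0 (by decide +kernel)

end Cfsg.Agent.Lib.ThLow8.A2
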