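import Cfsg.Agent.Lib.ThLow8.Chunk
import Cfsg.Agent.Lib.ThLow8.Data2

/-! Kernel evaluation of the words for the prime 2, part 2. -/

set_option autoImplicit false
set_option maxRecDepth 20000
set_option Elab.async false

namespace Cfsg.Agent.Lib.ThLow8.A2

open Cfsg.Agent.Lib.Th22

theorem a1_2_s0 : stepOk D2.lev1.tree [3,4,5,6,7,3,8,7,5,5] (permT (D2.lev1.perm 2) D2.lev1.q D2.lev1.tree) = true := by decide +kernel

theorem a1_2 : actOk D2.lev1 (D2.words.drop 6) 2 = true :=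
  actOk_of (w := [3,4,5,6,7,3,8,7,5,5]) rfl a1_2_s0 (by decide +kernel)

theorem a1_3_s0 : stepOk D2.lev1.tree [5,3,2,3,10,3,2,3,10,8] (permT (D2.lev1.perm 3) D2.lev1.q D2.lev1.tree) = true := by decide +kernel

theorem a1_3 : actOk D2.lev1 (D2.words.drop 6) 3 = true :=
  actOk_of (w := [5,3,2,3,10,3,2,3,10,8]) rfl a1_3_s0 (by decide +kernel)

theorem a1_4_s0 : stepOk D2.lev1.tree [4,5,4,5,4,3,10,3,4,8,10] (permT (D2.lev1.perm 4) D2.lev1.q D2.lev1.tree) = true := by decide +kernel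

theorem a1_4 : actOk D2.lev1 (D2.words.drop 6) 4 = true :=
  actOk_of (w := [4,5,4,5,4,3,10,3,4,8,10]) rfl a1_4_s0 (by decide +kernel)

theorem a1_5_s0 : stepOk D2.lev1.tree [6,5,4,10,3,2,3,4,10,8,9] (permT (D2.lev1.perm 5) D2.lev1.q D2.lev1.tree) = true := by decide +kernel

theorem a1_5 : actOk D2.lev1 (D2.words.drop 6) 5 = true :=
  actOk_of (w := [6,5,4,10,3,2,3,4,10,8,9]) rfl a1_5_s0 (by decide +kernel)

theorem a1_6_s0 : stepOk D2.lev1.tree [3,7,3,4,5,7,3,8,4,10] (permT (D2.lev1.perm 6) D2.lev1.q D2.lev1.tree) = true := by decide +kernel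

theorem a1_6 : actOk D2.lev1 (D2.words.drop 6) 6 = true :=
  actOk_of (w := [3,7,3,4,5,7,3,8,4,10]) rfl a1_6_s0 (by decide +kernel)

theorem a1_7_s0 : stepOk D2.lev1.tree [5,3,2,3,10,3,2,3,10,8] (permT (D2.lev1.perm 7) D2.lev1.q D2.lev1.tree) = true := by decide +kernel

theorem a1_7 : actOk D2.lev1 (D2.words.drop 6) 7 = true :=
  actOk_of (w := [5,3,2,3,10,3,2,3,10,8]) rfl a1_7_s0 (by decide +kernel)

theorem a1_8_s0 : stepOk D2.lev1.tree [3,4,5,6,0,7,3,8,7,5,5] (permT (D2.lev1.perm 8) D2.lev1.q D2.lev1.tree) = true := by decide +kernel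

theorem a1_8 : actOk D2.lev1 (D2.words.drop 6) 8 = true :=
  actOk_of (w := [3,4,5,6,0,7,3,8,7,5,5]) rfl a1_8_s0 (by decide +kernel)

end Cfsg.Agent.Lib.ThLow8.A2
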