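import Cfsg.Agent.Lib.ThLow8.Chunk
import Cfsg.Agent.Lib.ThLow8.Data2

/-! Kernel evaluation of the words for the prime 2, part 3. -/

set_option autoImplicit false
set_option maxRecDepth 20000
set_option Elab.async false

namespace Cfsg.Agent.Lib.ThLow8.A2

open Cfsg.Agent.Lib.Th22

theorem a1_9_s0 : stepOk D2.lev1.tree [3,4,5,4,3,10,3,10,3,5,7,8,4,9] (permT (D2.lev1.perm 9) D2.lev1.q D2.lev1.tree) = true := by decide +kernel

theorem a1_9 : actOk D2.lev1 (D2.words.drop 6) 9 = true :=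
  actOk_of (w := [3,4,5,4,3,10,3,10,3,5,7,8,4,9]) rfl a1_9_s0 (by decide +kernel)

theorem a2_0_s0 : stepOk D2.lev2.tree [3,7,3,4,5,7,3,8,4,10] (permT (D2.lev2.perm 0) D2.lev2.q D2.lev2.tree) = true := by decide +kernel

theorem a2_0 : actOk D2.lev2 (D2.words.drop 12) 0 = true :=
  actOk_of (w := [3,7,3,4,5,7,3,8,4,10]) rfl a2_0_s0 (by decide +kernel)

theorem a2_1_s0 : stepOk D2.lev2.tree [5,3,2,3,10,3,2,3,10,8] (permT (D2.lev2.perm 1) D2.lev2.q D2.lev2.tree) = true := by decide +kernel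

theorem a2_1 : actOk D2.lev2 (D2.words.drop 12) 1 = true :=
  actOk_of (w := [5,3,2,3,10,3,2,3,10,8]) rfl a2_1_s0 (by decide +kernel)

theorem a2_2_s0 : stepOk D2.lev2.tree [3,4,5,6,0,7,3,8,7,5,5] (permT (D2.lev2.perm 2) D2.lev2.q D2.lev2.tree) = true := by decide +kernel

theorem a2_2 : actOk D2.lev2 (D2.words.drop 12) 2 = true :=
  actOk_of (w := [3,4,5,6,0,7,3,8,7,5,5]) rfl a2_2_s0 (by decide +kernel)

theorem a2_3_s0 : stepOk D2.lev2.tree [3,4,5,4,3,10,3,10,3,5,7,8,4,9] (permT (D2.lev2.perm 3) D2.lev2.q D2.lev2.tree) = true := by decide +kernel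

theorem a2_3 : actOk D2.lev2 (D2.words.drop 12) 3 = true :=
  actOk_of (w := [3,4,5,4,3,10,3,10,3,5,7,8,4,9]) rfl a2_3_s0 (by decide +kernel)

end Cfsg.Agent.Lib.ThLow8.A2
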