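import Cfsg.Agent.Lib.ThLow8.Chunk
import Cfsg.Agent.Lib.ThLow8.Data3

/-! Kernel evaluation of the words for the prime 3, part 5. -/

set_option autoImplicit false
set_option maxRecDepth 20000
set_option Elab.async false

namespace Cfsg.Agent.Lib.ThLow8.A3

open Cfsg.Agent.Lib.Th22

theorem a1_0_s0 : stepOk D3.lev1.tree [1,4,7,3,2,4,3,7,1] (permT (D3.lev1.perm 0) D3.lev1.q D3.lev1.tree) = true := by decide +kernel

theorem a1_0 : actOk D3.lev1 (D3.words.drop 8) 0 = true :=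
  actOk_of (w := [1,4,7,3,2,4,3,7,1]) rfl a1_0_s0 (by decide +kernel)

theorem a1_1_s0 : stepOk D3.lev1.tree [0,7,3,2,1,3,2,3,10,1,0] (permT (D3.lev1.perm 1) D3.lev1.q D3.lev1.tree) = true := by decide +kernel

theorem a1_1 : actOk D3.lev1 (D3.words.drop 8) 1 = true :=
  actOk_of (w := [0,7,3,2,1,3,2,3,10,1,0]) rfl a1_1_s0 (by decide +kernel)

theorem a1_2_s0 : stepOk D3.lev1.tree [0,2,3,7,1,10,3,2,1,4,3,2] (permT (D3.lev1.perm 2) D3.lev1.q D3.lev1.tree) = true := by decide +kernel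

theorem a1_2 : actOk D3.lev1 (D3.words.drop 8) 2 = true :=
  actOk_of (w := [0,2,3,7,1,10,3,2,1,4,3,2]) rfl a1_2_s0 (by decide +kernel)

end Cfsg.Agent.Lib.ThLow8.A3
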