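import Cfsg.Agent.Lib.ThLow8.Code

/-! Checking a level piece by piece, to keep the memory of the kernel bounded. -/

set_option autoImplicit false

namespace Cfsg.Agent.Lib.ThLow8

open Cfsg.Agent.Lib.Th22

/-- the letters `w` carry the matrix `t` to the matrix `r` -/
noncomputable def stepOk (t : T) (w : List ℕ) (r : T) : Bool :=
  beqT ((w.map fun x => letterCT (letterX x)).foldl mul t) r

/-- the part of `actOk` which needs no matrices -/
noncomputable def permOk (l : Lev) (k : ℕ) : Bool :=
  ((List.range l.q).all fun i => Nat.ble (l.perm k i + 1) l.q) && (Nat.ble (k + 1) l.nNew || Nat.beq (l.perm k 0) 0)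

theorem step_trans {t m : T} {r : T} {w₁ w₂ : List ℕ} (h₁ : stepOk t w₁ m = true) (h₂ : stepOk m w₂ r = true) :
    stepOk t (w₁ ++ w₂) r = true := by
  unfold stepOk at h₁ h₂ ⊢
  rwa [List.map_append, List.foldl_append, beqT_eq h₁]

theorem actOk_of {l : Lev} {ws : List (List ℕ)} {k : ℕ} {w : List ℕ} (hw : ws.getD k [] = w)
    (h : stepOk l.tree w (permT (l.perm k) l.q l.tree) = true) (hp : permOk l k = true) : actOk l ws k = true := by
  unfold stepOk at h
  unfold permOk at hp
  simp only [actOk, hw, h, Bool.true_and]
  exact hp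

theorem levOk_of {l : Lev} {ws : List (List ℕ)} (n : ℕ) (hn : ws.length = n) (hs : shapeOk l ws = true)
    (ha : ∀ k, k < n → actOk l ws k = true) : levOk l ws = true := by
  simp only [levOk, hs, Bool.true_and, List.all_eq_true, List.mem_range, hn]
  exact ha

theorem certOk_cons {l : Lev} {L : List Lev} {ws ws' : List (List ℕ)} (h : levOk l ws = true)
    (hd : ws.drop l.nNew = ws') (hL : certOk L ws' = true) : certOk (l :: L) ws = true := by
  show (levOk l ws && certOk L (ws.drop l.nNew)) = true
  rw [h, hd, hL]
  rfl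

theorem certOk_nil (ws : List (List ℕ)) : certOk [] ws = true := rfl

end Cfsg.Agent.Lib.ThLow8
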