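import Mathlib
import Cfsg.Agent.Lib.Th22.Rep

/-!
Certificates for lower bounds on the image of the `248`-dimensional representation of the presented
Thompson group over the field with three elements: a level is a set of at most 248 row vectors, stored as the
rows of one packed matrix, which is permuted transitively by some words.
-/

set_option autoImplicit false

namespace Cfsg.Agent.Lib.ThLow8

open Cfsg.Agent.Lib.Th22 Cfsg.Spor

/-- letters `0..10` for `a b c d e s t u s⁻¹ t⁻¹ u⁻¹` -/
def letterX : ℕ → Th.Gen × Bool
  | 0 => (.a, true) | 1 => (.b, true) | 2 => (.c, true) | 3 => (.d, true) | 4 => (.e, true)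
  | 5 => (.s, true) | 6 => (.t, true) | 7 => (.u, true) | 8 => (.s, false) | 9 => (.t, false)
  | _ => (.u, false)

/-- one level of a certificate -/
structure Lev where
  q : ℕ
  cols : List (ℕ × ℕ)
  nNew : ℕ
  perms : List (List ℕ)
  par : List (ℕ × ℕ)

/-- a packed matrix from the list of its columns -/
noncomputable def buildT (L : List (ℕ × ℕ)) (d : ℕ) : ℕ → ℕ → T :=
  Nat.rec (motive := fun _ => ℕ → ℕ → T) (fun i _ => T.leaf (L.getD i (0, 0)).1 (L.getD i (0, 0)).2)
    (fun _ ih i k => T.node (ih i (2 * k)) (ih (i + k) (2 * k))) d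

/-- the vectors of a level -/
noncomputable def Lev.tree (l : Lev) : T := buildT l.cols 8 0 1

/-- all columns are consistent -/
noncomputable def wfTb (t : T) : Bool :=
  T.rec (motive := fun _ => Bool) (fun p n => Nat.beq (Nat.land p n) 0) (fun _ _ a b => a && b) t

/-- the bits of `p` moved by `π` -/
noncomputable def permBits (π : ℕ → ℕ) (p : ℕ) (q : ℕ) : ℕ :=
  Nat.rec (motive := fun _ => ℕ) 0
    (fun i acc => Bool.rec acc (Nat.lor acc (Nat.shiftLeft 1 i)) (Nat.testBit p (π i))) q

/-- a packed matrix with its first `q` rows moved by `π` -/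
noncomputable def permT (π : ℕ → ℕ) (q : ℕ) (t : T) : T :=
  T.rec (motive := fun _ => T) (fun p n => T.leaf (permBits π p q) (permBits π n q)) (fun _ _ a b => T.node a b) t

/-- the entry as a digit -/
def digit (p n i : ℕ) : ℕ := bif Nat.testBit p i then 1 else bif Nat.testBit n i then 2 else 0

/-- a number for row `i` -/
noncomputable def rowCode (t : T) (i : ℕ) : ℕ :=
  (List.range 248).foldl (fun acc j => getK t j fun p n => 3 * acc + digit p n i) 0

/-- no repetition in a list of numbers -/
noncomputable def noDup (L : List ℕ) : Bool :=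
  List.rec (motive := fun _ => Bool) true (fun a l ih => !(l.any (Nat.beq a)) && ih) L

/-- the permutation number `k` of a level -/
def Lev.perm (l : Lev) (k : ℕ) (i : ℕ) : ℕ := (l.perms.getD k []).getD i 0

/-- word `k` permutes the vectors by the given permutation -/
noncomputable def actOk (l : Lev) (ws : List (List ℕ)) (k : ℕ) : Bool :=
  beqT (((ws.getD k []).map fun x => letterCT (letterX x)).foldl mul l.tree) (permT (l.perm k) l.q l.tree)
    && ((List.range l.q).all fun i => Nat.ble (l.perm k i + 1) l.q)
    && (Nat.ble (k + 1) l.nNew || Nat.beq (l.perm k 0) 0)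

/-- the vectors are consistent, distinct and form one orbit -/
noncomputable def shapeOk (l : Lev) (ws : List (List ℕ)) : Bool :=
  Nat.ble 1 l.q && Nat.ble l.q 248 && wfTb l.tree && noDup ((List.range l.q).map (rowCode l.tree))
    && ((List.range l.q).all fun i => Nat.beq i 0 ||
      (Nat.ble ((l.par.getD i (0, 0)).1 + 1) i && Nat.ble ((l.par.getD i (0, 0)).2 + 1) ws.length
        && Nat.beq (l.perm (l.par.getD i (0, 0)).2 (l.par.getD i (0, 0)).1) i))

/-- a level is correct -/
noncomputable def levOk (l : Lev) (ws : List (List ℕ)) : Bool :=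
  shapeOk l ws && ((List.range ws.length).all (actOk l ws))

/-- the whole certificate is correct -/
noncomputable def certOk (L : List Lev) (ws : List (List ℕ)) : Bool :=
  List.rec (motive := fun _ => List (List ℕ) → Bool) (fun _ => true)
    (fun l _ ih w => levOk l w && ih (w.drop l.nNew)) L ws

/-- the bound given by a certificate -/
def certVal (L : List Lev) : ℕ := (L.map Lev.q).prod

end Cfsg.Agent.Lib.ThLow8
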