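import Cfsg.Agent.Lib.ThLow8.Sound
import Cfsg.Agent.Lib.ThLow8.Data19

/-! The certificate for the prime 19 is correct. -/

set_option autoImplicit false
set_option maxRecDepth 20000

namespace Cfsg.Agent.Lib.ThLow8

theorem ok19 : certOk D19.cert D19.words = true := by decide +kernel

end Cfsg.Agent.Lib.ThLow8
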