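import Cfsg.Agent.Lib.ThLow8.Sound
import Cfsg.Agent.Lib.ThLow8.Act2_0
import Cfsg.Agent.Lib.ThLow8.Act2_1
import Cfsg.Agent.Lib.ThLow8.Act2_2
import Cfsg.Agent.Lib.ThLow8.Act2_3

/-! The certificate for the prime 2 is correct. -/

set_option autoImplicit false
set_option maxRecDepth 20000
set_option Elab.async false

namespace Cfsg.Agent.Lib.ThLow8

theorem shape2_0 : shapeOk D2.lev0 (D2.words.drop 0) = true := by decide +kernel

theorem acts2_0 : ∀ k, k < 16 → actOk D2.lev0 (D2.words.drop 0) k = true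
  | 0, _ => A2.a0_0
  | 1, _ => A2.a0_1
  | 2, _ => A2.a0_2
  | 3, _ => A2.a0_3
  | 4, _ => A2.a0_4
  | 5, _ => A2.a0_5
  | 6, _ => A2.a0_6
  | 7, _ => A2.a0_7
  | 8, _ => A2.a0_8
  | 9, _ => A2.a0_9
  | 10, _ => A2.a0_10
  | 11, _ => A2.a0_11
  | 12, _ => A2.a0_12
  | 13, _ => A2.a0_13
  | 14, _ => A2.a0_14
  | 15, _ => A2.a0_15
  | k + 16, h => absurd h (by omega)

theorem shape2_1 : shapeOk D2.lev1 (D2.words.drop 6) = true := by decide +kernel

theorem acts2_1 : ∀ k, k < 10 → actOk D2.lev1 (D2.words.drop 6) k = true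
  | 0, _ => A2.a1_0
  | 1, _ => A2.a1_1
  | 2, _ => A2.a1_2
  | 3, _ => A2.a1_3
  | 4, _ => A2.a1_4
  | 5, _ => A2.a1_5
  | 6, _ => A2.a1_6
  | 7, _ => A2.a1_7
  | 8, _ => A2.a1_8
  | 9, _ => A2.a1_9
  | k + 10, h => absurd h (by omega)

theorem shape2_2 : shapeOk D2.lev2 (D2.words.drop 12) = true := by decide +kernel

theorem acts2_2 : ∀ k, k < 4 → actOk D2.lev2 (D2.words.drop 12) k = true
  | 0, _ => A2.a2_0
  | 1, _ => A2.a2_1
  | 2, _ => A2.a2_2
  | 3, _ => A2.a2_3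
  | k + 4, h => absurd h (by omega)

theorem ok2 : certOk D2.cert D2.words = true :=
  (certOk_cons (ws' := D2.words.drop 6) (levOk_of 16 rfl shape2_0 acts2_0) rfl (certOk_cons (ws' := D2.words.drop 12) (levOk_of 10 rfl shape2_1 acts2_1) rfl (certOk_cons (ws' := D2.words.drop 16) (levOk_of 4 rfl shape2_2 acts2_2) rfl (certOk_nil _))))

end Cfsg.Agent.Lib.ThLow8
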