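import Cfsg.Agent.Lib.ThLow8.Sound
import Cfsg.Agent.Lib.ThLow8.Act3_0
import Cfsg.Agent.Lib.ThLow8.Act3_1
import Cfsg.Agent.Lib.ThLow8.Act3_2
import Cfsg.Agent.Lib.ThLow8.Act3_3
import Cfsg.Agent.Lib.ThLow8.Act3_4
import Cfsg.Agent.Lib.ThLow8.Act3_5
import Cfsg.Agent.Lib.ThLow8.Act3_6
import Cfsg.Agent.Lib.ThLow8.Act3_7

/-! The certificate for the prime 3 is correct. -/

set_option autoImplicit false
set_option maxRecDepth 20000
set_option Elab.async false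

namespace Cfsg.Agent.Lib.ThLow8

theorem shape3_0 : shapeOk D3.lev0 (D3.words.drop 0) = true := by decide +kernel

theorem acts3_0 : ∀ k, k < 13 → actOk D3.lev0 (D3.words.drop 0) k = true
  | 0, _ => A3.a0_0
  | 1, _ => A3.a0_1
  | 2, _ => A3.a0_2
  | 3, _ => A3.a0_3
  | 4, _ => A3.a0_4
  | 5, _ => A3.a0_5
  | 6, _ => A3.a0_6
  | 7, _ => A3.a0_7
  | 8, _ => A3.a0_8
  | 9, _ => A3.a0_9
  | 10, _ => A3.a0_10
  | 11, _ => A3.a0_11
  | 12, _ => A3.a0_12
  | k + 13, h => absurd h (by omega)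

theorem shape3_1 : shapeOk D3.lev1 (D3.words.drop 8) = true := by decide +kernel

theorem acts3_1 : ∀ k, k < 5 → actOk D3.lev1 (D3.words.drop 8) k = true
  | 0, _ => A3.a1_0
  | 1, _ => A3.a1_1
  | 2, _ => A3.a1_2
  | 3, _ => A3.a1_3
  | 4, _ => A3.a1_4
  | k + 5, h => absurd h (by omega)

theorem ok3 : certOk D3.cert D3.words = true :=
  (certOk_cons (ws' := D3.words.drop 8) (levOk_of 13 rfl shape3_0 acts3_0) rfl (certOk_cons (ws' := D3.words.drop 13) (levOk_of 5 rfl shape3_1 acts3_1) rfl (certOk_nil _)))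

end Cfsg.Agent.Lib.ThLow8
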