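import Cfsg.Agent.Lib.ThLow8.Sound
import Cfsg.Agent.Lib.ThLow8.Act5_0
import Cfsg.Agent.Lib.ThLow8.Act5_1

/-! The certificate for the prime 5 is correct. -/

set_option autoImplicit false
set_option maxRecDepth 20000
set_option Elab.async false

namespace Cfsg.Agent.Lib.ThLow8

theorem shape5_0 : shapeOk D5.lev0 (D5.words.drop 0) = true := by decide +kernel

theorem acts5_0 : ∀ k, k < 2 → actOk D5.lev0 (D5.words.drop 0) k = true
  | 0, _ => A5.a0_0
  | 1, _ => A5.a0_1
  | k + 2, h => absurd h (by omega)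

theorem ok5 : certOk D5.cert D5.words = true :=
  (certOk_cons (ws' := D5.words.drop 2) (levOk_of 2 rfl shape5_0 acts5_0) rfl (certOk_nil _))

end Cfsg.Agent.Lib.ThLow8
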