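import Cfsg.Agent.Lib.ThLow8.Sound
import Cfsg.Agent.Lib.ThLow8.Ok2
import Cfsg.Agent.Lib.ThLow8.Ok3
import Cfsg.Agent.Lib.ThLow8.Ok5
import Cfsg.Agent.Lib.ThLow8.Ok7
import Cfsg.Agent.Lib.ThLow8.Ok13
import Cfsg.Agent.Lib.ThLow8.Ok19
import Cfsg.Agent.Lib.ThLow8.Ok31

/-!
The order of the presented Thompson group, and of its image in the representation over the field with three
elements, is divisible by the order of the Thompson group.
-/

set_option autoImplicit false
set_option maxRecDepth 20000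

namespace Cfsg.Agent.Lib.ThLow8

open Cfsg.Agent.Lib.Th22 Cfsg.Spor

theorem dvd_range : 2 ^ 15 * 3 ^ 10 * 5 ^ 3 * 7 ^ 2 * 13 * 19 * 31 ∣ Nat.card rho.range := by
  have h2 := certVal_dvd_range ok2
  have h3 := certVal_dvd_range ok3
  have h5 := certVal_dvd_range ok5
  have h7 := certVal_dvd_range ok7
  have h13 := certVal_dvd_range ok13
  have h19 := certVal_dvd_range ok19
  have h31 := certVal_dvd_range ok31
  rw [show certVal D2.cert = 2 ^ 15 from rfl] at h2
  rw [show certVal D3.cert = 3 ^ 10 from rfl] at h3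
  rw [show certVal D5.cert = 5 ^ 3 from rfl] at h5
  rw [show certVal D7.cert = 7 ^ 2 from rfl] at h7
  rw [show certVal D13.cert = 13 from rfl] at h13
  rw [show certVal D19.cert = 19 from rfl] at h19
  rw [show certVal D31.cert = 31 from rfl] at h31
  refine Nat.Coprime.mul_dvd_of_dvd_of_dvd (by norm_num) ?_ h31
  refine Nat.Coprime.mul_dvd_of_dvd_of_dvd (by norm_num) ?_ h19
  refine Nat.Coprime.mul_dvd_of_dvd_of_dvd (by norm_num) ?_ h13
  refine Nat.Coprime.mul_dvd_of_dvd_of_dvd (by norm_num) ?_ h7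
  refine Nat.Coprime.mul_dvd_of_dvd_of_dvd (by norm_num) ?_ h5
  exact Nat.Coprime.mul_dvd_of_dvd_of_dvd (by norm_num) h2 h3

/-- **The lower bound on the presented Thompson group** (zero if it is infinite). -/
theorem dvd_card_Th : 90745943887872000 ∣ Nat.card Th := by
  rw [show 90745943887872000 = 2 ^ 15 * 3 ^ 10 * 5 ^ 3 * 7 ^ 2 * 13 * 19 * 31 by norm_num]
  exact dvd_range.trans (Subgroup.card_range_dvd rho)

theorem card_Th_le [Finite Th] : 90745943887872000 ≤ Nat.card Th :=
  Nat.le_of_dvd Nat.card_pos dvd_card_Th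

end Cfsg.Agent.Lib.ThLow8
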