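import Cfsg.Agent.Lib.ThLow8.Code

/-!
A correct certificate bounds the order of the subgroup generated by its words from below.
-/

set_option autoImplicit false
set_option maxRecDepth 4000

namespace Cfsg.Agent.Lib.ThLow8

open Cfsg.Agent.Lib.Th22 Cfsg.Spor Matrix

/-- the matrix group -/
abbrev GG : Type := GL (Fin 248) (ZMod 3)

/-- row vectors -/
structure Row where
  /-- the coordinates -/
  v : Fin 248 → ZMod 3

instance : MulAction GG Row where
  smul g x := ⟨x.v ᵥ* ((g⁻¹ : GG) : Matrix (Fin 248) (Fin 248) (ZMod 3))⟩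
  one_smul x := by
    show Row.mk _ = x
    simp
  mul_smul g h x := by
    show Row.mk (x.v ᵥ* ((g * h)⁻¹ : GG).val) = Row.mk ((x.v ᵥ* (h⁻¹ : GG).val) ᵥ* (g⁻¹ : GG).val)
    rw [_root_.mul_inv_rev, Units.val_mul, Matrix.vecMul_vecMul]

theorem smul_row (g : GG) (x : Row) :
    (g • x).v = x.v ᵥ* ((g⁻¹ : GG) : Matrix (Fin 248) (Fin 248) (ZMod 3)) := rfl

theorem Row.ext' {x y : Row} (h : x.v = y.v) : x = y := by cases x; cases y; subst h; rfl

/-- the image of a letter -/
noncomputable def letG (x : ℕ) : GG := cond (letterX x).2 (genU (letterX x).1) (genU (letterX x).1)⁻¹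

/-- the image of a word -/
noncomputable def wordG (w : List ℕ) : GG := (w.map letG).prod

theorem wordG_mem_range (w : List ℕ) : wordG w ∈ rho.range := by
  refine Subgroup.list_prod_mem _ fun g hg => ?_
  obtain ⟨x, -, rfl⟩ := List.mem_map.1 hg
  unfold letG
  cases (letterX x).2
  · exact inv_mem ⟨_, rho_of _⟩
  · exact ⟨_, rho_of _⟩

theorem wordG_val (w : List ℕ) : ((wordG w : GG) : Matrix (Fin 248) (Fin 248) (ZMod 3)) =
    ((w.map fun x => letterCT (letterX x)).map toMatG).prod := by
  have h := val_prod (w.map letterX)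
  simp only [List.map_map] at h ⊢
  exact h

theorem getK_buildT (L : List (ℕ × ℕ)) : ∀ (d i k j : ℕ) {α : Type} (f : ℕ → ℕ → α),
    ∃ n, getK (buildT L d i k) j f = f (L.getD n (0, 0)).1 (L.getD n (0, 0)).2
  | 0, i, _, _, _, _ => ⟨i, rfl⟩
  | d + 1, i, k, j, α, f => by
    have e1 : getK (buildT L (d + 1) i k) j f = Bool.rec (getK (buildT L d i (2 * k)) (Nat.shiftRight j 1) f)
        (getK (buildT L d (i + k) (2 * k)) (Nat.shiftRight j 1) f) (Nat.beq (Nat.land j 1) 1) := rfl
    rw [e1]
    cases Nat.beq (Nat.land j 1) 1 <;> exact getK_buildT L d _ _ _ f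

theorem wf_of_land {p n : ℕ} (h : Nat.beq (Nat.land p n) 0 = true) : WF p n := fun i hi => by
  have h0 : (p &&& n).testBit i = false := by
    rw [show p &&& n = 0 from Nat.eq_of_beq_eq_true h, Nat.zero_testBit]
  simpa [Nat.testBit_and, hi] using h0

theorem wft_of_wfTb : ∀ {t : T}, wfTb t = true → WFT t
  | .leaf _ _, h, _ => wf_of_land h
  | .node l r, h, j => by
    have h' : (wfTb l && wfTb r) = true := h
    simp only [Bool.and_eq_true] at h'
    show Bool.rec (getK l (Nat.shiftRight j 1) WF) (getK r (Nat.shiftRight j 1) WF) (Nat.beq (Nat.land j 1) 1)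
    cases Nat.beq (Nat.land j 1) 1
    · exact wft_of_wfTb h'.1 _
    · exact wft_of_wfTb h'.2 _

theorem testBit_permBits (π : ℕ → ℕ) (p : ℕ) : ∀ (q i : ℕ),
    (permBits π p q).testBit i = (decide (i < q) && p.testBit (π i))
  | 0, i => by
    show (0 : ℕ).testBit i = _
    simp
  | q + 1, i => by
    show (Bool.rec (motive := fun _ => ℕ) (permBits π p q) (Nat.lor (permBits π p q) (Nat.shiftLeft 1 q)) (p.testBit (π q))).testBit i = _
    rcases lt_trichotomy i q with h | h | h
    · cases hq : p.testBit (π q)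
      · simp [testBit_permBits π p q i, h, h.trans (Nat.lt_succ_self q)]
      · show (permBits π p q ||| 1 <<< q).testBit i = _
        rw [Nat.testBit_or, Nat.one_shiftLeft, Nat.testBit_two_pow, testBit_permBits π p q i]
        simp [h, h.trans (Nat.lt_succ_self q), (ne_of_gt h : q ≠ i)]
    · subst h
      cases hq : p.testBit (π i)
      · simp [testBit_permBits π p i i, hq]
      · show (permBits π p i ||| 1 <<< i).testBit i = _
        rw [Nat.testBit_or, Nat.one_shiftLeft, Nat.testBit_two_pow, testBit_permBits π p i i]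
        simp [hq]
    · cases hq : p.testBit (π q)
      · simp [testBit_permBits π p q i, not_lt.2 h.le, show ¬ i < q + 1 by omega]
      · show (permBits π p q ||| 1 <<< q).testBit i = _
        rw [Nat.testBit_or, Nat.one_shiftLeft, Nat.testBit_two_pow, testBit_permBits π p q i]
        simp [not_lt.2 h.le, show ¬ i < q + 1 by omega, (ne_of_lt h : q ≠ i)]

theorem getK_permT (π : ℕ → ℕ) (q : ℕ) : ∀ (t : T) (j : ℕ) {α : Type} (f : ℕ → ℕ → α),
    getK (permT π q t) j f = getK t j fun p n => f (permBits π p q) (permBits π n q)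
  | .leaf _ _, _, _, _ => rfl
  | .node l r, j, α, f => by
    show Bool.rec (motive := fun _ => α) (getK (permT π q l) (Nat.shiftRight j 1) f)
        (getK (permT π q r) (Nat.shiftRight j 1) f) (Nat.beq (Nat.land j 1) 1) =
      Bool.rec (motive := fun _ => α) (getK l (Nat.shiftRight j 1) fun p n => f (permBits π p q) (permBits π n q))
        (getK r (Nat.shiftRight j 1) fun p n => f (permBits π p q) (permBits π n q)) (Nat.beq (Nat.land j 1) 1)
    rw [getK_permT π q l, getK_permT π q r]

/-- row `i` of a packed matrix -/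
noncomputable def rowV (t : T) (i : ℕ) : Fin 248 → ZMod 3 := fun j => getK t j.1 fun p n => val p n i

theorem rowV_permT (π : ℕ → ℕ) (q : ℕ) (t : T) {i : ℕ} (hi : i < q) :
    rowV (permT π q t) i = rowV t (π i) := by
  funext j
  unfold rowV
  rw [getK_permT]
  congr 1
  funext p n
  simp [val, testBit_permBits, hi]

theorem rowV_toMat (t : T) (i : Fin 248) : rowV t i.1 = toMat t i := rfl

theorem rowV_foldl {t : T} (ht : WFT t) (w : List ℕ) {i : ℕ} (hi : i < 248) :
    rowV ((w.map fun x => letterCT (letterX x)).foldl mul t) i =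
      rowV t i ᵥ* ((wordG w : GG) : Matrix (Fin 248) (Fin 248) (ZMod 3)) := by
  rw [wordG_val, rowV_toMat _ ⟨i, hi⟩, toMat_foldl _ ht fun g hg => by
    obtain ⟨x, -, rfl⟩ := List.mem_map.1 hg; exact okG_letter _]
  funext j
  simp only [Matrix.mul_apply, Matrix.vecMul, dotProduct]
  rfl

theorem digit_inj {p n p' n' i i' : ℕ} (h : val p n i = val p' n' i') : digit p n i = digit p' n' i' := by
  revert h
  unfold val digit
  cases p.testBit i <;> cases n.testBit i <;> cases p'.testBit i' <;> cases n'.testBit i' <;>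
    simp <;> decide

theorem rowCode_congr {t : T} {i i' : ℕ} (h : rowV t i = rowV t i') : rowCode t i = rowCode t i' := by
  have key : ∀ L : List ℕ, (∀ j ∈ L, j < 248) → ∀ acc : ℕ,
      L.foldl (fun acc j => getK t j fun p n => 3 * acc + digit p n i) acc =
        L.foldl (fun acc j => getK t j fun p n => 3 * acc + digit p n i') acc := by
    intro L
    induction L with
    | nil => intro _ _; rfl
    | cons j L ih =>
      intro hL acc
      rw [List.foldl_cons, List.foldl_cons, ← ih (fun x hx => hL x (List.mem_cons_of_mem _ hx))]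
      congr 1
      have hj := congrFun h ⟨j, hL j List.mem_cons_self⟩
      simp only [rowV, getK_eq t j (fun p n => val p n i), getK_eq t j (fun p n => val p n i')] at hj
      rw [getK_eq t j (fun p n => 3 * acc + digit p n i), getK_eq t j (fun p n => 3 * acc + digit p n i'),
        digit_inj hj]
  exact key _ (fun j hj => List.mem_range.1 hj) 0

theorem nodup_of_noDup : ∀ {L : List ℕ}, noDup L = true → L.Nodup
  | [], _ => List.nodup_nil
  | a :: l, h => by
    have h' : (!(l.any (Nat.beq a)) && noDup l) = true := h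
    simp only [Bool.and_eq_true, Bool.not_eq_true'] at h'
    refine List.nodup_cons.2 ⟨fun hm => ?_, nodup_of_noDup h'.2⟩
    have := List.any_eq_false.1 h'.1 a hm
    exact this (Nat.beq_refl a)

/-- **One level.** -/
theorem level_dvd {l : Lev} {ws : List (List ℕ)} (h : levOk l ws = true) :
    l.q * Nat.card (Subgroup.closure {g | ∃ w ∈ ws.drop l.nNew, g = wordG w}) ∣
      Nat.card (Subgroup.closure {g | ∃ w ∈ ws, g = wordG w}) := by
  classical
  simp only [levOk, shapeOk, Bool.and_eq_true, List.all_eq_true, List.mem_range, Bool.or_eq_true,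
    Nat.ble_eq] at h
  obtain ⟨⟨⟨⟨⟨hq1, hq2⟩, hwf⟩, hnd⟩, hpar⟩, hact⟩ := h
  have hwft := wft_of_wfTb hwf
  let r : Fin l.q → Row := fun i => ⟨rowV l.tree i.1⟩
  have hinj : Function.Injective r := fun a b e => by
    have e' := rowCode_congr (show rowV l.tree a.1 = rowV l.tree b.1 from congrArg Row.v e)
    exact Fin.ext (List.inj_on_of_nodup_map (nodup_of_noDup hnd) (List.mem_range.2 a.2)
      (List.mem_range.2 b.2) e')
  have hmove : ∀ k, k < ws.length → ∀ i : Fin l.q, ∃ hp : l.perm k i.1 < l.q,
      (wordG (ws.getD k []))⁻¹ • r i = r ⟨l.perm k i.1, hp⟩ := by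
    intro k hk i
    have hk' := hact k hk
    simp only [actOk, Bool.and_eq_true, List.all_eq_true, List.mem_range, Nat.ble_eq] at hk'
    refine ⟨hk'.1.2 i.1 i.2, Row.ext' ?_⟩
    rw [smul_row, inv_inv]
    show rowV l.tree i.1 ᵥ* _ = rowV l.tree _
    exact ((rowV_foldl hwft _ (lt_of_lt_of_le i.2 hq2)).symm.trans
      (congrArg (fun T => rowV T i.1) (beqT_eq hk'.1.1))).trans (rowV_permT _ _ _ i.2)
  have hfix : ∀ k, k < ws.length → l.nNew ≤ k → l.perm k 0 = 0 := by
    intro k hk hn
    have hk' := hact k hk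
    simp only [actOk, Bool.and_eq_true, Bool.or_eq_true, Nat.ble_eq] at hk'
    rcases hk'.2 with h | h
    · omega
    · exact Nat.eq_of_beq_eq_true h
  set H := Subgroup.closure {g | ∃ w ∈ ws, g = wordG w} with hH
  have hgen : ∀ k, k < ws.length → wordG (ws.getD k []) ∈ H := fun k hk =>
    Subgroup.subset_closure ⟨_, by rw [List.getD_eq_getElem _ _ hk]; exact List.getElem_mem hk, rfl⟩
  let r0 : Row := r ⟨0, hq1⟩
  have hinvset : ∀ g ∈ H, (fun x => g • x) '' Set.range r = Set.range r := by
    intro g hg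
    induction hg using Subgroup.closure_induction with
    | mem g hg =>
      obtain ⟨w, hw, rfl⟩ := hg
      obtain ⟨k, hk, rfl⟩ := List.getElem_of_mem hw
      have hsub : (fun x => (wordG ws[k])⁻¹ • x) '' Set.range r ⊆ Set.range r := by
        rintro _ ⟨_, ⟨i, rfl⟩, rfl⟩
        obtain ⟨hp, e⟩ := hmove k hk i
        exact ⟨_, (List.getD_eq_getElem ws [] hk ▸ e).symm⟩
      have heq : (fun x => (wordG ws[k])⁻¹ • x) '' Set.range r = Set.range r := by
        refine Set.eq_of_subset_of_ncard_le hsub ?_ (Set.finite_range r)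
        rw [Set.ncard_image_of_injective _ (MulAction.injective _)]
      conv_lhs => rw [← heq]
      rw [Set.image_image]
      simp
    | one => simp
    | mul a b _ _ ha hb =>
      conv_rhs => rw [← ha, ← hb]
      rw [Set.image_image]
      simp [mul_smul]
    | inv a _ ha =>
      conv_lhs => rw [← ha]
      rw [Set.image_image]
      simp
  have horb : MulAction.orbit H r0 = Set.range r := by
    ext x
    constructor
    · rintro ⟨g, rfl⟩
      rw [← hinvset g g.2]
      exact ⟨r0, ⟨_, rfl⟩, rfl⟩
    · rintro ⟨⟨i, hi⟩, rfl⟩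
      induction i using Nat.strong_induction_on with
      | _ i ih =>
        rcases Nat.eq_zero_or_pos i with rfl | hpos
        · exact MulAction.mem_orbit_self _
        · rcases hpar i hi with h0 | h0
          · exact absurd (Nat.eq_of_beq_eq_true h0) hpos.ne'
          · obtain ⟨⟨h1, h2⟩, h3⟩ := h0
            have hp1 : (l.par.getD i (0, 0)).1 < l.q := by omega
            have hk2 : (l.par.getD i (0, 0)).2 < ws.length := by omega
            obtain ⟨g, hg⟩ := ih (l.par.getD i (0, 0)).1 (by omega) hp1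
            obtain ⟨hp, e⟩ := hmove (l.par.getD i (0, 0)).2 hk2 ⟨_, hp1⟩
            have hg' : g • r0 = r ⟨_, hp1⟩ := hg
            refine ⟨⟨_, inv_mem (hgen _ hk2)⟩ * g, ?_⟩
            show ((⟨_, inv_mem (hgen _ hk2)⟩ : ↥H) * g) • r0 = r ⟨i, hi⟩
            rw [mul_smul, hg']
            refine e.trans (congrArg r (Fin.ext ?_))
            exact Nat.eq_of_beq_eq_true h3
  have hsub : Subgroup.closure {g | ∃ w ∈ ws.drop l.nNew, g = wordG w} ≤ H :=
    Subgroup.closure_mono fun g ⟨w, hw, e⟩ => ⟨w, List.mem_of_mem_drop hw, e⟩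
  have hst : Subgroup.closure {g | ∃ w ∈ ws.drop l.nNew, g = wordG w} ≤ MulAction.stabilizer GG r0 := by
    refine (Subgroup.closure_le _).2 ?_
    rintro _ ⟨w, hw, rfl⟩
    obtain ⟨k, hk, rfl⟩ := List.getElem_of_mem hw
    rw [List.getElem_drop]
    rw [List.length_drop] at hk
    obtain ⟨hp, e⟩ := hmove (l.nNew + k) (by omega) ⟨0, hq1⟩
    rw [List.getD_eq_getElem _ _ (by omega)] at e
    have e' : r ⟨l.perm (l.nNew + k) 0, hp⟩ = r0 :=
      congrArg r (Fin.ext (hfix _ (by omega) (by omega)))
    have := inv_smul_eq_iff.1 (e.trans e')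
    exact this.symm
  have hcard : Nat.card ↥(MulAction.stabilizer ↥H r0) * l.q = Nat.card ↥H := by
    rw [show l.q = (MulAction.stabilizer ↥H r0).index by
      rw [MulAction.index_stabilizer, horb, Set.ncard_range_of_injective hinj, Nat.card_fin]]
    exact Subgroup.card_mul_index _
  rw [← hcard, mul_comm]
  refine mul_dvd_mul_right ?_ _
  refine Subgroup.card_dvd_of_injective
    ((Subgroup.inclusion hsub).codRestrict (MulAction.stabilizer ↥H r0) fun g => ?_) ?_
  · exact hst g.2
  · intro a b e
    exact Subgroup.inclusion_injective hsub (congrArg Subtype.val e)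

/-- **A correct certificate.** -/
theorem certOk_dvd : ∀ {L : List Lev} {ws : List (List ℕ)}, certOk L ws = true →
    certVal L ∣ Nat.card (Subgroup.closure {g | ∃ w ∈ ws, g = wordG w})
  | [], _, _ => by simp [certVal]
  | l :: L, ws, h => by
    have h' : (levOk l ws && certOk L (ws.drop l.nNew)) = true := h
    simp only [Bool.and_eq_true] at h'
    have := certOk_dvd h'.2
    refine (Dvd.dvd.trans ?_ (level_dvd h'.1))
    simpa [certVal] using mul_dvd_mul_left l.q this

theorem certVal_dvd_range {L : List Lev} {ws : List (List ℕ)} (h : certOk L ws = true) :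
    certVal L ∣ Nat.card rho.range := by
  refine (certOk_dvd h).trans (Subgroup.card_dvd_of_le ?_)
  rw [Subgroup.closure_le]
  rintro _ ⟨w, -, rfl⟩
  exact wordG_mem_range w

end Cfsg.Agent.Lib.ThLow8
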